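import Groth.Agent.EtRamLib.Types
import Groth.Agent.EtRamLib.RadicalBase
import Groth.Agent.EtRamLib.UnrBaseChange
import Mathlib

/-!
# Composites and Galois closures of unramified and tame extensions
-/

set_option autoImplicit false
set_option linter.style.haveILetI false
set_option backward.isDefEq.respectTransparency false

universe u

open IsLocalRing

namespace Groth.Agent.EtRamClos

variable (K : Type u) [Field K]

/-- A property of field extensions closed under composites passes to Galois closures and composites. -/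
theorem closure_of_compositum (P : ∀ (L : Type u) [Field L] [Algebra K L], Prop)
    (hsub : ∀ (L M : Type u) [Field L] [Field M] [Algebra K L] [Algebra K M] [FiniteDimensional K M]
      [Algebra.IsSeparable K M], (L →ₐ[K] M) → P M → P L)
    (hcomp : ∀ (L₁ L₂ M : Type u) [Field L₁] [Field L₂] [Field M] [Algebra K L₁] [Algebra K L₂] [Algebra K M]
      [FiniteDimensional K L₁] [FiniteDimensional K L₂] [FiniteDimensional K M] [Algebra.IsSeparable K L₁]
      [Algebra.IsSeparable K L₂] [Algebra.IsSeparable K M] (i₁ : L₁ →ₐ[K] M) (i₂ : L₂ →ₐ[K] M),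
      Subfield.closure (Set.range i₁ ∪ Set.range i₂) = ⊤ → P L₁ → P L₂ → P M) :
    (∀ (L : Type u) [Field L] [Algebra K L] [FiniteDimensional K L] [Algebra.IsSeparable K L], P L →
      ∃ (M : Type u) (_ : Field M) (_ : Algebra K M) (_ : FiniteDimensional K M) (_ : IsGalois K M) (_ : L →ₐ[K] M),
        P M) ∧
    (∀ (L₁ L₂ : Type u) [Field L₁] [Field L₂] [Algebra K L₁] [Algebra K L₂] [FiniteDimensional K L₁]
      [FiniteDimensional K L₂] [Algebra.IsSeparable K L₁] [Algebra.IsSeparable K L₂], P L₁ → P L₂ →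
      ∃ (M : Type u) (_ : Field M) (_ : Algebra K M) (_ : FiniteDimensional K M) (_ : Algebra.IsSeparable K M)
        (_ : L₁ →ₐ[K] M) (_ : L₂ →ₐ[K] M), P M) := by
  classical
  let Ω := AlgebraicClosure K
  have hsup : ∀ (E₁ E₂ : IntermediateField K Ω) [FiniteDimensional K E₁] [FiniteDimensional K E₂]
      [Algebra.IsSeparable K E₁] [Algebra.IsSeparable K E₂], P E₁ → P E₂ → P ↥(E₁ ⊔ E₂) := by
    intro E₁ E₂ _ _ _ _ h₁ h₂
    let i₁ : E₁ →ₐ[K] ↥(E₁ ⊔ E₂) := IntermediateField.inclusion le_sup_left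
    let i₂ : E₂ →ₐ[K] ↥(E₁ ⊔ E₂) := IntermediateField.inclusion le_sup_right
    refine hcomp E₁ E₂ _ i₁ i₂ (eq_top_iff.2 fun z _ => ?_) h₁ h₂
    let S := Subfield.closure (Set.range i₁ ∪ Set.range i₂)
    let S' : IntermediateField K ↥(E₁ ⊔ E₂) :=
      { S with algebraMap_mem' := fun r => Subfield.subset_closure (Or.inl ⟨algebraMap K E₁ r, i₁.commutes r⟩) }
    have hle : E₁ ⊔ E₂ ≤ IntermediateField.map (E₁ ⊔ E₂).val S' :=
      sup_le (fun x hx => ⟨i₁ ⟨x, hx⟩, Subfield.subset_closure (Or.inl ⟨_, rfl⟩), rfl⟩)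
        (fun x hx => ⟨i₂ ⟨x, hx⟩, Subfield.subset_closure (Or.inr ⟨_, rfl⟩), rfl⟩)
    obtain ⟨w, hw, hwz⟩ := hle z.2
    rwa [Subtype.ext (hwz : (w : Ω) = z)] at hw
  have himg : ∀ (L : Type u) [Field L] [Algebra K L] [FiniteDimensional K L] [Algebra.IsSeparable K L]
      (σ : L →ₐ[K] Ω), P L → (FiniteDimensional K σ.fieldRange ∧ Algebra.IsSeparable K σ.fieldRange) ∧ P σ.fieldRange :=
    fun L _ _ _ _ σ h => by
      let e : L ≃ₐ[K] σ.fieldRange := AlgEquiv.ofInjectiveField σ
      exact ⟨⟨e.toLinearEquiv.finiteDimensional, AlgEquiv.Algebra.isSeparable e⟩,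
        hsub _ _ e.symm.toAlgHom h⟩
  refine ⟨fun L _ _ _ _ h => ?_, fun L₁ L₂ _ _ _ _ _ _ _ _ h₁ h₂ => ?_⟩
  · let σ₀ : L →ₐ[K] Ω := IsAlgClosed.lift
    have hfin : ∀ s : Finset (L →ₐ[K] Ω), (FiniteDimensional K ↥(s.sup fun σ => σ.fieldRange) ∧
        Algebra.IsSeparable K ↥(s.sup fun σ => σ.fieldRange)) ∧ P ↥(s.sup fun σ => σ.fieldRange) := by
      intro s
      induction s using Finset.induction with
      | empty =>
        rw [Finset.sup_empty]
        refine ⟨⟨(IntermediateField.botEquiv K Ω).symm.toLinearEquiv.finiteDimensional,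
          AlgEquiv.Algebra.isSeparable (IntermediateField.botEquiv K Ω).symm⟩, ?_⟩
        exact hsub _ _ ((Algebra.ofId K L).comp (IntermediateField.botEquiv K Ω).toAlgHom) h
      | insert σ s hs ih =>
        rw [Finset.sup_insert]
        obtain ⟨⟨i1, i2⟩, i3⟩ := himg L σ h
        obtain ⟨⟨j1, j2⟩, j3⟩ := ih
        exact ⟨⟨inferInstance, inferInstance⟩, hsup _ _ i3 j3⟩
    have heq : (Finset.univ.sup fun σ : L →ₐ[K] Ω => σ.fieldRange) = IntermediateField.normalClosure K L Ω := by
      rw [Finset.sup_univ_eq_iSup]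
      rfl
    have hU := hfin Finset.univ
    rw [heq] at hU
    obtain ⟨⟨i1, i2⟩, i3⟩ := hU
    haveI := i1
    haveI := i2
    refine ⟨IntermediateField.normalClosure K L Ω, inferInstance, inferInstance, i1, ⟨⟩,
      σ₀.codRestrict (IntermediateField.normalClosure K L Ω).toSubalgebra fun x =>
        σ₀.fieldRange_le_normalClosure ⟨x, rfl⟩, i3⟩
  · let σ₁ : L₁ →ₐ[K] Ω := IsAlgClosed.lift
    let σ₂ : L₂ →ₐ[K] Ω := IsAlgClosed.lift
    obtain ⟨⟨i1, i2⟩, i3⟩ := himg L₁ σ₁ h₁
    obtain ⟨⟨j1, j2⟩, j3⟩ := himg L₂ σ₂ h₂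
    exact ⟨↥(σ₁.fieldRange ⊔ σ₂.fieldRange), inferInstance, inferInstance, inferInstance, inferInstance,
      (IntermediateField.inclusion le_sup_left).comp σ₁.rangeRestrict,
      (IntermediateField.inclusion le_sup_right).comp σ₂.rangeRestrict, hsup _ _ i3 j3⟩

variable {K} {A : Type u} [CommRing A] [IsDomain A] [IsDiscreteValuationRing A] [Algebra A K] [IsFractionRing A K]

theorem sub_tame {L M : Type u} [Field L] [Field M] [Algebra K L] [Algebra K M] [FiniteDimensional K M]
    [Algebra.IsSeparable K M] (f : L →ₐ[K] M)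
    (h : EtRam.IsTamelyRamified A ((algebraMap K M).comp (algebraMap A K))) :
    EtRam.IsTamelyRamified A ((algebraMap K L).comp (algebraMap A K)) := by
  letI : Algebra L M := f.toRingHom.toAlgebra
  haveI : IsScalarTower K L M := IsScalarTower.of_algebraMap_eq fun x => (f.commutes x).symm
  exact EtRamLib.tame_subextension h

theorem sub_unramified {L M : Type u} [Field L] [Field M] [Algebra K L] [Algebra K M] [FiniteDimensional K M]
    [Algebra.IsSeparable K M] (f : L →ₐ[K] M)
    (h : EtRam.IsUnramifiedExt A ((algebraMap K M).comp (algebraMap A K))) :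
    EtRam.IsUnramifiedExt A ((algebraMap K L).comp (algebraMap A K)) := by
  letI : Algebra L M := f.toRingHom.toAlgebra
  haveI : IsScalarTower K L M := IsScalarTower.of_algebraMap_eq fun x => (f.commutes x).symm
  exact EtRamLib.unramified_subextension h

theorem comp_both {L₁ L₂ M : Type u} [Field L₁] [Field L₂] [Field M] [Algebra K L₁] [Algebra K L₂] [Algebra K M]
    [FiniteDimensional K L₁] [FiniteDimensional K L₂] [FiniteDimensional K M] [Algebra.IsSeparable K L₁]
    [Algebra.IsSeparable K L₂] [Algebra.IsSeparable K M] (i₁ : L₁ →ₐ[K] M) (i₂ : L₂ →ₐ[K] M)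
    (hgen : Subfield.closure (Set.range i₁ ∪ Set.range i₂) = ⊤) :
    (EtRam.IsTamelyRamified A ((algebraMap K L₁).comp (algebraMap A K)) →
      EtRam.IsTamelyRamified A ((algebraMap K L₂).comp (algebraMap A K)) →
      EtRam.IsTamelyRamified A ((algebraMap K M).comp (algebraMap A K))) ∧
    (EtRam.IsUnramifiedExt A ((algebraMap K L₁).comp (algebraMap A K)) →
      EtRam.IsUnramifiedExt A ((algebraMap K L₂).comp (algebraMap A K)) →
      EtRam.IsUnramifiedExt A ((algebraMap K M).comp (algebraMap A K))) := by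
  letI : Algebra L₁ M := i₁.toRingHom.toAlgebra
  haveI : IsScalarTower K L₁ M := IsScalarTower.of_algebraMap_eq fun x => (i₁.commutes x).symm
  letI : Algebra A L₁ := ((algebraMap K L₁).comp (algebraMap A K)).toAlgebra
  haveI : IsScalarTower A K L₁ := IsScalarTower.of_algebraMap_eq fun _ => rfl
  have hgen' : Subfield.closure (Set.range i₂.toRingHom ∪ Set.range (algebraMap L₁ M)) = ⊤ := by
    rw [Set.union_comm]
    exact hgen
  have hij : i₂.toRingHom.comp (algebraMap K L₂) = (algebraMap L₁ M).comp (algebraMap K L₁) :=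
    RingHom.ext fun x => (i₂.commutes x).trans (i₁.commutes x).symm
  refine ⟨fun h1 h2 => EtRamLib.tame_composition (L := L₁) h1 fun V hV => ?_,
    fun h1 h2 => EtRamLib.unramified_composition (L := L₁) h1 fun V hV => ?_⟩
  ·
    haveI : IsDiscreteValuationRing V := EtRamLib.isDVR_of_dominates A K V hV
    letI : Algebra A V := (RingHom.codRestrict _ V hV.1).toAlgebra
    haveI : IsLocalHom (algebraMap A V) := EtRamLib.isLocalHom_of_dominates _ V hV
    haveI : IsScalarTower A V L₁ := IsScalarTower.of_algebraMap_eq fun _ => rfl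
    exact EtRamLib.tame_base_change (B := V) (L := L₁) h2 i₂.toRingHom (algebraMap L₁ M) hij hgen'
  ·
    haveI : IsDiscreteValuationRing V := EtRamLib.isDVR_of_dominates A K V hV
    letI : Algebra A V := (RingHom.codRestrict _ V hV.1).toAlgebra
    haveI : IsLocalHom (algebraMap A V) := EtRamLib.isLocalHom_of_dominates _ V hV
    haveI : IsScalarTower A V L₁ := IsScalarTower.of_algebraMap_eq fun _ => rfl
    exact EtRamLib.unramified_base_change A K (B := V) (L := L₁) h2 i₂.toRingHom (algebraMap L₁ M) hij hgen'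

end Groth.Agent.EtRamClos
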